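import Cfsg.Agent.H271.PU.RowB
import Cfsg.Agent.H44.CTh

/-!
# S3046, case B: the Thompson group (helper338)
-/

set_option autoImplicit false

namespace Cfsg.Agent.H338.PU

open Subgroup Cfsg
open Cfsg.Agent.ThType.SpinData Cfsg.Agent.ThType.ElemE Cfsg.Agent.ThType.NormE
open Cfsg.Agent.H271.PU Cfsg.Agent.H229

variable {G : Type*} [Group G] {z : G}

/-- `C_G(z)` has no elementary abelian normal subgroup of order `≥ 8` containing `z` -/
theorem rowAt_of_spin [Finite G] (S : SpinAt G z) : RowAt 2 z := by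
  intro A hA hzA hAc hN hcard
  exfalso
  have hAz : ∀ a ∈ A, a * z = z * a := fun a ha => mem_centralizer_singleton_iff.1 (hAc ha)
  have hA2 : ∀ a ∈ A, a * a = 1 := fun a ha => by rw [← pow_two]; exact hA.2 a ha
  have hconj : ∀ g : G, g * z = z * g → ∀ a ∈ A, g * a * g⁻¹ ∈ A := fun g hg a ha =>
    (mem_normalizer_iff.1 (hN (mem_centralizer_singleton_iff.2 hg)) a).1 ha
  -- `A ∩ Q ≤ ⟨z⟩`
  have h1 : ∀ x ∈ A, x ∈ S.Q → x = 1 ∨ x = z := by
    intro x hxA hxQ
    by_contra hcon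
    push Not at hcon
    obtain ⟨hx1, hxz⟩ := hcon
    have hall : ∀ y ∈ S.Q, q0 (S.π y) = 0 → S.π y ≠ 0 → y ∈ A := by
      intro y hy hq hne
      have hy1 : y ≠ 1 := by
        rintro rfl
        exact hne (pi_one S)
      have hyz : y ≠ z := by
        rintro rfl
        exact hne (pi_z S)
      obtain ⟨h, hh, rfl⟩ := conj_in_C S hxQ hx1 hxz (hA2 x hxA) hy hy1 hyz ((sq_eq_one_iff S hy).2 hq)
      exact hconj h hh x hxA
    obtain ⟨v, hv⟩ := S.π_surj (fun i => if i = 0 then 1 else 0)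
    obtain ⟨w, hw⟩ := S.π_surj (fun i => if i = 4 then 1 else 0)
    have hvA := hall v hv.1 (by rw [hv.2]; decide) (by rw [hv.2]; decide)
    have hwA := hall w hw.1 (by rw [hw.2]; decide) (by rw [hw.2]; decide)
    have h5 := not_comm S hv.1 hw.1 (by rw [hv.2, hw.2]; decide)
    rw [ea_comm hA hvA hwA, mul_inv_cancel_right] at h5
    exact S.z_ne (mul_eq_right.1 h5.symm)
  -- `A ≤ Q`
  have h2 : ∀ a ∈ A, a ∈ S.Q := by
    intro a ha
    rw [← S.φ_eq_one a (hAz a ha)]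
    apply ker_fix S.ρ_cyc
    intro v
    obtain ⟨x, hx, rfl⟩ := S.π_surj v
    rw [← S.act a (hAz a ha) x hx]
    have h3 : a * x * a⁻¹ * x⁻¹ ∈ S.Q := mul_mem (conj_mem_Q S (hAz a ha) hx) (inv_mem hx)
    have h4 : a * x * a⁻¹ * x⁻¹ ∈ A := by
      have h5 := hconj x (S.Q_le x hx) a⁻¹ (inv_mem ha)
      have h6 : a * x * a⁻¹ * x⁻¹ = a * (x * a⁻¹ * x⁻¹) := by group
      rw [h6]
      exact mul_mem ha h5
    have h5 : a * x * a⁻¹ = (a * x * a⁻¹ * x⁻¹) * x := by group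
    rcases h1 _ h4 h3 with h6 | h6
    · rw [h5, h6, one_mul]
    · rw [h5, h6, pi_zmul S hx]
  have h3 : (A : Set G) ⊆ {1, z} := fun x hx => by
    rcases h1 x hx (h2 x hx) with h | h
    · exact Or.inl h
    · exact Or.inr h
  have h4 := Set.ncard_le_ncard h3 (Set.toFinite _)
  rw [Set.ncard_pair S.z_ne.symm, ← Nat.card_coe_set_eq] at h4
  have h5 : Nat.card ((A : Subgroup G) : Set G) = Nat.card A := rfl
  rw [h5] at h4
  omega

theorem rowB_of_spin [Finite G] (S : SpinAt G z) : RowB 2 G := by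
  have hL := H44.CTh.large S
  have : Fact (Nat.Prime 2) := ⟨Nat.prime_two⟩
  obtain ⟨T, hT⟩ := (Cfsg.Agent.LargeExtra.Base.isPGroup hL).exists_le_sylow
  refine rowB_of_center (T := T) (z₀ := z) ?_ (orderOf_eq_prime (by rw [pow_two]; exact S.z_sq) S.z_ne)
    (rowAt_of_spin S)
  intro y hy hyT hy2
  have hyz : y * z = z * y := (hyT z (hT S.z_mem)).symm
  have hyQ : y ∈ S.Q := hL.self y hyz fun x hx => (hyT x (hT hx)).symm
  rcases hL.cent y hyQ fun x hx => (hyT x (hT hx)).symm with h | h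
  · rw [h]; exact one_mem _
  · rw [h]; exact mem_zpowers z

/-- **The row `Th`, `p = 2`.** -/
theorem rowB_th {K : Type*} [Group K] [Finite K] (h : Spor.IsoTh K) : RowB 2 K := by
  have : Fact (Nat.Prime 2) := ⟨Nat.prime_two⟩
  obtain ⟨e⟩ := h
  have hf : Finite Cfsg.Spor.Th := Cfsg.Agent.Th.Main1700.final.1
  obtain ⟨S⟩ := Cfsg.Agent.Sigma.ThRow.exists_spin
  exact (rowB_of_spin S).congr e.symm

end Cfsg.Agent.H338.PU
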